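import Cfsg.Agent.H925.Rs.Fct
import Cfsg.Agent.H177.Rg.SpOver
import Cfsg.Agent.H377.Types
import Cfsg.Agent.LieClassical.OrthCount
import Cfsg.Agent.S0287
import Cfsg.Agent.S0288

/-!
# S3691, row `PSp_2m(q)`: the orders of the overgroups of `Ω^-_2n(q)` in `Sp_2n(q)`, `q` even (helper89 for helper925)

* `card_O` : the order of `O(Q)`, `Q` nondegenerate of dimension `2 n`;
* `omE_val` : a proper subgroup `H` of `Sp_2n(q)` containing `Ω(Q)` and of order divisible by a primitive prime of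
  `q ^ (2 n) - 1` : `v_t(H) + v_t(q ^ n - 1) ≤ v_t(Sp_2n(q))`, `t` odd.
-/

set_option autoImplicit false
set_option linter.unusedSectionVars false

namespace Cfsg.Agent.H89.Rs

open Module QuadraticMap Cfsg Cfsg.Agent.LieClassical.OrthCore Cfsg.Agent.H884.El Cfsg.Agent.H925.Rs
open Cfsg.Agent.LieClassical.OrthCount (OG OGcongr isometryGroupEquiv)
open Cfsg.Agent.LieClassical.OrthForms (plusForm minusForm coe_plusForm coe_minusForm)

universe v w

variable {F : Type v} [Field F] [Fintype F] {V : Type w} [AddCommGroup V] [Module F V] [FiniteDimensional F V]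

/-- the order of an isometry group, from a coordinate system -/
theorem card_O_of {ι : Type} [Fintype ι] [DecidableEq ι] {Q : QuadraticForm F V} (Q' : QuadraticForm F (ι → F))
    (e : (ι → F) ≃ₗ[F] V) (he : ∀ u, Q (e u) = Q' u) : Nat.card (O Q) = Nat.card (isometryGroup F (⇑Q')) := by
  have h1 : Nat.card (O Q) = Nat.card (OG Q) := Nat.card_congr (Equiv.subtypeEquivRight fun g => Iff.rfl)
  rw [h1, Nat.card_congr (isometryGroupEquiv Q').toEquiv]
  exact (Nat.card_congr (OGcongr e he).toEquiv).symm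

/-- **the order of `O(Q)`** -/
theorem card_O {n : ℕ} (hn : 1 ≤ n) (hV : finrank F V = 2 * n) {Q : QuadraticForm F V} (hQ : Nondeg Q) :
    Nat.card (O Q) = 2 * Fintype.card F ^ (n * (n - 1)) * (Fintype.card F ^ n - 1) *
        ∏ i ∈ Finset.range (n - 1), (Fintype.card F ^ (2 * (i + 1)) - 1) ∨
    Nat.card (O Q) = 2 * Fintype.card F ^ (n * (n - 1)) * (Fintype.card F ^ n + 1) *
        ∏ i ∈ Finset.range (n - 1), (Fintype.card F ^ (2 * (i + 1)) - 1) := by
  rcases Cfsg.Agent.H377.classify_all hn hV Q hQ with ⟨e, he⟩ | ⟨ζ, hζ, e, he⟩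
  · left
    rw [← Cfsg.Agent.S0287.result (F := F) rfl n hn, ← coe_plusForm]
    exact card_O_of (plusForm n F) e fun u => by rw [he, coe_plusForm]
  · right
    rw [← Cfsg.Agent.S0288.result (F := F) rfl n hn 1 ζ hζ, ← coe_minusForm]
    exact card_O_of (minusForm (n - 1) F 1 ζ) e fun u => by rw [he, coe_minusForm]

/-- **the valuations** -/
theorem omE_val {B : LinearMap.BilinForm F V} {n : ℕ} (hB : ∀ x, B x x = 0) (hnd : ∀ x, (∀ y, B x y = 0) → x = 0)
    (hn : finrank F V = 2 * n) (hn4 : 4 ≤ n) {H : Subgroup (V ≃ₗ[F] V)} (hH : H ≤ Isos B) (hne : ¬ Isos B ≤ H)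
    (hE : OmE B H) {t1 : ℕ} (ht1 : PP (Nat.card F) (2 * n) t1) (h1 : t1 ∣ Nat.card H) :
    ∀ t : ℕ, t.Prime → t ≠ 2 → (Nat.card H).factorization t + (Nat.card F ^ n - 1).factorization t ≤
      (Nat.card (Isos B)).factorization t := by
  intro t ht ht2
  have hfin := finite_end (F := F) (V := V)
  obtain ⟨h2, Q, hQB, hEH⟩ := hE
  have hQ : Nondeg Q := fun x hx => hnd x fun y => by rw [← hQB]; exact hx y
  have hHO : H ≤ O Q := by
    rcases Cfsg.Agent.H177.Rg.sp_over h2 hQ (by omega) (fun h hh u v => by rw [hQB, hQB]; exact hH hh u v) hEH with h3 | h3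
    · exact h3
    · exact absurd (fun x hx => h3 x fun u v => by rw [hQB, hQB]; exact hx u v) hne
  have hdvd : Nat.card H ∣ Nat.card (O Q) := Subgroup.card_dvd_of_le hHO
  have hq1 : 1 < Fintype.card F := Fintype.one_lt_card
  have hcF : Nat.card F = Fintype.card F := Nat.card_eq_fintype_card
  set q := Fintype.card F with hq
  have hprod : ∏ i ∈ Finset.range n, (q ^ (2 * (i + 1)) - 1) =
      (∏ i ∈ Finset.range (n - 1), (q ^ (2 * (i + 1)) - 1)) * (q ^ (2 * n) - 1) := by
    obtain ⟨m, rfl⟩ : ∃ m, n = m + 1 := ⟨n - 1, by omega⟩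
    rw [Finset.prod_range_succ, Nat.add_sub_cancel]
  have hfac : q ^ (2 * n) - 1 = (q ^ n + 1) * (q ^ n - 1) := by
    rw [mul_comm 2 n, pow_mul]
    have := Nat.sq_sub_sq (q ^ n) 1
    rwa [one_pow] at this
  rw [hcF] at ht1 ⊢
  rcases card_O (by omega) hn hQ with h3 | h3
  · -- plus type: the primitive prime does not divide the order
    exfalso
    have h4 := h1.trans hdvd
    rw [h3] at h4
    have hp1 := ht1.prime
    have hdiv : ∀ j, 0 < j → t1 ∣ q ^ j - 1 → 2 * n ≤ j := fun j hj h =>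
      Nat.le_of_dvd hj ((ht1.dvd_iff hq1.le j).1 h)
    have hlt := ht1.lt (by omega)
    rcases hp1.dvd_mul.1 h4 with h5 | h5
    · rcases hp1.dvd_mul.1 h5 with h6 | h6
      · rcases hp1.dvd_mul.1 h6 with h7 | h7
        · have := Nat.le_of_dvd two_pos h7
          omega
        · exact ht1.ne_zero (by omega) ((ZMod.natCast_eq_zero_iff _ _).2 (hp1.dvd_of_dvd_pow h7))
      · have := hdiv n (by omega) h6
        omega
    · obtain ⟨i, hi, h6⟩ := (Prime.dvd_finsetProd_iff hp1.prime _).1 h5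
      rw [Finset.mem_range] at hi
      have := hdiv _ (by omega) h6
      omega
  · have h4 : Nat.card (O Q) * (q ^ n - 1) * q ^ n = 2 * Nat.card (Isos B) := by
      rw [h3, card_Isos hB hnd hn, ← hq, hprod, hfac]
      have h5 : n ^ 2 = n * (n - 1) + n := by
        obtain ⟨m, rfl⟩ : ∃ m, n = m + 1 := ⟨n - 1, by omega⟩
        rw [Nat.add_sub_cancel]
        ring
      rw [h5, pow_add]
      ring
    have hO0 : Nat.card (O Q) ≠ 0 := Nat.card_pos.ne'
    have hI0 : Nat.card (Isos B) ≠ 0 := Nat.card_pos.ne'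
    have hqn : q ^ n - 1 ≠ 0 := by
      have : q ^ 1 ≤ q ^ n := Nat.pow_le_pow_right (by omega) (by omega)
      rw [pow_one] at this
      omega
    have hqn' : q ^ n ≠ 0 := pow_ne_zero _ (by omega)
    have h5 := congrArg (fun x => x.factorization t) h4
    rw [Nat.factorization_mul (mul_ne_zero hO0 hqn) hqn', Nat.factorization_mul hO0 hqn,
      Nat.factorization_mul two_ne_zero hI0] at h5
    simp only [Finsupp.add_apply] at h5
    have h6 : (2 : ℕ).factorization t = 0 :=
      Nat.factorization_eq_zero_of_not_dvd fun h => ht2 ((Nat.prime_dvd_prime_iff_eq ht Nat.prime_two).1 h)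
    have h7 : (Nat.card H).factorization t ≤ (Nat.card (O Q)).factorization t :=
      (Nat.factorization_le_iff_dvd Nat.card_pos.ne' hO0).2 hdvd t
    omega

end Cfsg.Agent.H89.Rs
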